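import Groth.Agent.SpecLim.ConsRes
import Groth.Agent.PtTop.Sob
import Mathlib.Topology.Sober

/-!
# Grothendieck vanishing on Noetherian spaces, through the soberification
-/

set_option autoImplicit false
set_option linter.style.haveILetI false
set_option backward.isDefEq.respectTransparency false
set_option backward.isDefEq.respectTransparency.types false

universe u

open CategoryTheory CategoryTheory.Limits Opposite TopologicalSpace Topology

namespace Groth.Agent.SpecLim

open Groth.Agent.CohVanish
open scoped Groth.Agent.CohVanish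

variable {X : TopCat.{u}}

/-- The soberification. -/
abbrev sobTop (X : TopCat.{u}) : TopCat.{u} := TopCat.of (PtTop.Sob X)

/-- The map to the soberification. -/
noncomputable def sobMap (X : TopCat.{u}) : X ⟶ sobTop X :=
  TopCat.ofHom ⟨PtTop.toSob X, PtSob.continuous_toSob⟩

lemma map_meet (W : Opens X) :
    (Opens.map (sobMap X)).obj ⟨PtSob.meet (W : Set X), PtSob.isOpen_meet W.2⟩ = W :=
  Opens.ext (PtSob.preimage_meet W.2)

instance additive_pushSob : (pushSh (sobMap X)).Additive where

instance preservesFiniteLimits_pushSob : PreservesFiniteLimits (pushSh (sobMap X)) :=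
  have : PreservesLimitsOfSize.{0, 0} (pushSh (sobMap X)) :=
    (TopCat.Sheaf.pullbackPushforwardAdjunction AddCommGrpCat.{u} (sobMap X)).rightAdjoint_preservesLimits
  PreservesLimitsOfSize.preservesFiniteLimits _

/-- Direct image to the soberification is exact. -/
lemma epi_map_sob {S : ShortComplex (AbSh X)} (hS : S.ShortExact) :
    (S.map (pushSh (sobMap X))).ShortExact := by
  refine shortExact_map_of_epi _ hS (epi_of_local_lifts _ fun U q Z hZ => ?_)
  obtain ⟨V, hV, e⟩ := PtSob.isOpen_iff.1 U.2
  have hZ' : Z ∈ PtSob.meet V := e ▸ hZ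
  obtain ⟨x, hxZ, hxV⟩ := hZ'
  have hxU : x ∈ (Opens.map (sobMap X)).obj U := by
    show PtTop.toSob X x ∈ U.carrier
    rw [e]
    exact (PtSob.mem_closure_singleton hV).2 hxV
  obtain ⟨W, hW, hxW, t, ht⟩ := exists_lift_near hS _ q x hxU
  let W' : Opens (sobTop X) := U ⊓ ⟨PtSob.meet (W : Set X), PtSob.isOpen_meet W.2⟩
  have hle : (Opens.map (sobMap X)).obj W' ≤ W := fun y hy => by
    rw [← map_meet W]
    exact hy.2
  refine ⟨W', inf_le_left, ⟨hZ, ⟨x, hxZ, hxW⟩⟩, S.X₂.obj.map (homOfLE hle).op t, ?_⟩
  refine (SpecColim.app_res S.g hle t).trans ?_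
  rw [ht]
  exact SpecColim.res_res S.X₃ _ _ q

/-- Cohomology is the same on the soberification. -/
theorem nonempty_EU_sob (F : AbSh X) (n : ℕ) :
    Nonempty (EU F ⊤ n ≃+ EU ((pushSh (sobMap X)).obj F) ⊤ n) :=
  nonempty_EU_equiv (pushSh (sobMap X)) ⊤ ⊤ (fun _ => AddEquiv.refl _) (fun _ _ => rfl) (fun _ => True)
    (fun _ _ => trivial) (fun G _ => epi_map_sob (injSES_shortExact G))
    (fun I _ m => by
      have := isFlasque_of_injective I
      have : TopCat.Sheaf.IsFlasque ((pushSh (sobMap X)).obj I) :=
        TopCat.Sheaf.IsFlasque.pushforward_isFlasque I (sobMap X)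
      exact subsingleton_of_flasque _ _ _) n F trivial

/-- The soberification has at most the dimension of the space. -/
lemma topologicalKrullDim_sob (X : Type u) [TopologicalSpace X] :
    topologicalKrullDim (PtTop.Sob X) ≤ topologicalKrullDim X := by
  haveI := PtSob.quasiSober (X := X)
  haveI := PtSob.t0Space (X := X)
  refine Order.krullDim_le_of_strictMono
    (fun S : IrreducibleCloseds (PtTop.Sob X) => PtSob.crl S.isIrreducible.genericPoint) ?_
  intro S T h
  have hS := S.isIrreducible.isGenericPoint_genericPoint S.isClosed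
  have hT := T.isIrreducible.isGenericPoint_genericPoint T.isClosed
  have hsp : T.isIrreducible.genericPoint ⤳ S.isIrreducible.genericPoint := hT.specializes (h.le hS.mem)
  refine lt_of_le_of_ne (show (PtSob.crl S.isIrreducible.genericPoint : Set X) ⊆ _ from fun x hx => ?_) fun e => ?_
  · by_contra hc
    obtain ⟨y, hy, hy'⟩ := hsp.mem_open
      (PtSob.isOpen_meet (PtSob.crl T.isIrreducible.genericPoint).isClosed.isOpen_compl) ⟨x, hx, hc⟩
    exact hy' hy
  · exact h.ne (IrreducibleCloseds.ext (hS.def.symm.trans ((congrArg (fun a : PtTop.Sob X => closure ({a} : Set (PtTop.Sob X))) e).trans hT.def)))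

/-- Grothendieck vanishing. -/
theorem subsingleton_EU_top_of_noetherian [NoetherianSpace X] {d : ℕ} (hd : topologicalKrullDim X ≤ d)
    (F : AbSh X) (p : ℕ) (hp : d < p) : Subsingleton (EU F ⊤ p) := by
  haveI : SpectralSpace (sobTop X) := PtSob.spectralSpace (X := X)
  obtain ⟨e⟩ := nonempty_EU_sob F p
  haveI := subsingleton_EU_top ((topologicalKrullDim_sob X).trans hd) p 0 ((pushSh (sobMap X)).obj F)
    (suppChain_zero _) (by lia)
  exact e.toEquiv.subsingleton

end Groth.Agent.SpecLim
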