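import Groth.Agent.CompactPull.StalkIso
import Groth.Agent.CompactPull.Extend
import Groth.Agent.SpecSp.Constr
import Groth.Agent.SpecColim.Basic
import Groth.Agent.CohVanish.Global
import Mathlib.Topology.KrullDimension

/-!
# Vanishing of cohomology on spectral spaces above the dimension

The resolution is built from the sheaves `c_* c⁻¹ F`, `c` the map from the constructible topology:
they are flasque on compact opens, and the cokernel of `F ⟶ c_* c⁻¹ F` has vanishing stalks where
all proper generalisations have vanishing stalks.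
-/

set_option autoImplicit false
set_option linter.style.haveILetI false
set_option backward.isDefEq.respectTransparency false
set_option backward.isDefEq.respectTransparency.types false

universe u

open CategoryTheory CategoryTheory.Limits Opposite TopologicalSpace Topology Set

namespace Groth.Agent.SpecLim

open Groth.Agent.CompactPull Groth.Agent.CohVanish
open scoped Groth.Agent.CohVanish

variable {X : TopCat.{u}} [SpectralSpace X]

/-- The space with its constructible topology. -/
abbrev consTop (X : TopCat.{u}) : TopCat.{u} := TopCat.of (WithConstructibleTopology X)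

/-- The map from the constructible topology. -/
noncomputable def consMap (X : TopCat.{u}) [SpectralSpace X] : consTop X ⟶ X :=
  TopCat.ofHom ⟨fun z => z.ofTopology, continuous_def.2 fun s hs =>
    (WithConstructibleTopology.isOpen_iff (X := X)).2 (SpecSp.isOpen_cons hs)⟩

variable (F : AbSh X)

/-- The sheaf `c_* c⁻¹ F`. -/
noncomputable abbrev consPush : AbSh X :=
  (CohTop.push (consMap X)).obj ((CohTop.pull (consMap X)).obj F)

/-- The unit. -/
noncomputable def consUnit : F ⟶ consPush F :=
  (TopCat.Sheaf.pullbackPushforwardAdjunction AddCommGrpCat.{u} (consMap X)).unit.app F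

lemma consUnit_app {U : Opens X} (s : F.obj.obj (op U)) :
    (consUnit F).hom.app (op U) s = pulled (consMap X) F s := rfl

lemma gm_pulled {U : Opens X} (s : F.obj.obj (op U)) (z : consTop X) (hz : consMap X z ∈ U) :
    gm ((CohTop.pull (consMap X)).obj F) ((Opens.map (consMap X)).obj U) z hz (pulled (consMap X) F s) =
      stalkCmp (consMap X) F z (gm F U (consMap X z) hz s) :=
  (stalkCmp_germ (consMap X) F s z hz).symm

lemma mono_consUnit : Mono (consUnit F) := by
  have h : ∀ U : (Opens X)ᵒᵖ, Mono ((consUnit F).hom.app U) := fun U => by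
    rw [AddCommGrpCat.mono_iff_injective, injective_iff_map_eq_zero]
    intro s hs
    refine eq_of_gm F s 0 fun x hx => (bijective_stalkCmp' (consMap X) F (WithTopology.toTopology _ x)).1 ?_
    refine (gm_pulled F s _ hx).symm.trans (Eq.trans ?_ (gm_pulled F 0 _ hx))
    exact congrArg _ (hs.trans (map_zero ((consUnit F).hom.app U).hom).symm)
  haveI : Mono (consUnit F).hom := NatTrans.mono_of_mono_app _
  exact (sheafToPresheaf _ _).mono_of_mono_map ‹Mono (consUnit F).hom›

lemma qFlasque_consPush : SpecColim.QFlasque ⊤ (consPush F) := by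
  intro V W h _ _ hW s
  let G : AbSh (consTop X) := (CohTop.pull (consMap X)).obj F
  let C : Opens (consTop X) := ⟨((consMap X) ⁻¹' (W : Set X))ᶜ ∩ (consMap X) ⁻¹' (V : Set X),
    IsOpen.inter ((WithConstructibleTopology.isClosed_iff (X := X) (s := (consMap X) ⁻¹' (W : Set X))).2
      (SpecSp.isClopen_cons W.2 hW).1).isOpen_compl (V.2.preimage (consMap X).hom.continuous)⟩
  obtain ⟨t, ht, -⟩ := SpecColim.exists_glue₂ G (U := (Opens.map (consMap X)).obj W) (V := C)
    (W := (Opens.map (consMap X)).obj V) (fun z hz => h hz) (fun z hz => hz.2)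
    (fun z hz => (em (consMap X z ∈ W)).elim (fun hw => Or.inl hw) (fun hw => Or.inr ⟨hw, hz⟩)) s 0 (by
      refine eq_of_gm G _ _ fun z hz => absurd hz.1 hz.2.1)
  exact ⟨t, ht⟩

/-- The cokernel of the unit. -/
noncomputable abbrev consSES : ShortComplex (AbSh X) :=
  ShortComplex.mk (consUnit F) (cokernel.π (consUnit F)) (cokernel.condition _)

lemma consSES_shortExact : (consSES F).ShortExact where
  exact := ShortComplex.exact_cokernel _
  mono_f := mono_consUnit F
  epi_g := inferInstanceAs (Epi (cokernel.π _))

/-- The stalk at a point is zero. -/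
def StalkZero (F : AbSh X) (y : X) : Prop :=
  ∀ (U : Opens X) (hy : y ∈ U) (s : F.obj.obj (op U)), gm F U y hy s = 0

omit [SpectralSpace X] in
lemma stalk_eq_zero {F : AbSh X} {y : X} (h : StalkZero F y)
    (a : TopCat.Presheaf.stalk (C := AddCommGrpCat.{u}) F.obj y) : a = 0 := by
  obtain ⟨U, hy, s, rfl⟩ := TopCat.Presheaf.exists_germ_eq (F := F.obj) a
  exact h U hy s

/-- The cokernel has zero stalk where all proper generalisations have zero stalk. -/
lemma stalkZero_coker {y : X} (hy : ∀ z, z ⤳ y → z ≠ y → StalkZero F z) :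
    StalkZero (consSES F).X₃ y := by
  intro U hU q
  obtain ⟨V, hVU, hyV, t, ht⟩ := exists_lift_near (consSES_shortExact F) U q y hU
  let G : AbSh (consTop X) := (CohTop.pull (consMap X)).obj F
  let y' : consTop X := WithTopology.toTopology _ y
  obtain ⟨a, ha⟩ := (bijective_stalkCmp' (consMap X) F y').2 (gm G ((Opens.map (consMap X)).obj V) y' hyV t)
  obtain ⟨U', hyU', s, rfl⟩ := TopCat.Presheaf.exists_germ_eq (F := F.obj) a
  let E : Set (consTop X) := eqLocus G (pulled (consMap X) F s) t
  have hE : IsOpen[constructibleTopology X] (WithTopology.toTopology (constructibleTopology X) ⁻¹' E) :=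
    (WithConstructibleTopology.isOpen_iff (X := X)).1 (isOpen_eqLocus G _ _)
  obtain ⟨N, hN⟩ := SpecSp.exists_subset_of_directed _ (SpecSp.directed_compactOpen_nhds y)
    (fun N => (SpecSp.isClopen_cons N.2.1 N.2.2.1).1) hE (by
      intro z hz
      have hzy : z ⤳ y := SpecSp.specializes_of_forall_compactOpen fun N ho hc hyN =>
        mem_iInter.1 hz ⟨N, ho, hc, hyN⟩
      refine ⟨hzy.mem_open U'.2 hyU', hzy.mem_open V.2 hyV, ?_⟩
      rcases eq_or_ne z y with rfl | hne
      · exact (gm_pulled F s y' hyU').trans ha
      · obtain ⟨b, hb⟩ := (bijective_stalkCmp' (consMap X) F (WithTopology.toTopology _ z)).2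
          (gm G ((Opens.map (consMap X)).obj V) (WithTopology.toTopology _ z) (hzy.mem_open V.2 hyV) t)
        refine (gm_pulled F s _ (hzy.mem_open U'.2 hyU')).trans (Eq.trans ?_ hb)
        exact congrArg _ ((stalk_eq_zero (hy z hzy hne) _).trans (stalk_eq_zero (hy z hzy hne) b).symm))
  let N' : Opens X := ⟨N.1, N.2.1⟩
  have h1 : N' ≤ U' := fun z hz => (hN hz).1
  have h2 : N' ≤ V := fun z hz => (hN hz).2.1
  have e : (consPush F).obj.map (homOfLE h2).op t = (consUnit F).hom.app (op N') (F.obj.map (homOfLE h1).op s) := by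
    rw [consUnit_app, pulled_res (consMap X) F h1 s]
    refine eq_of_gm G _ _ fun z hz => ?_
    obtain ⟨_, _, he⟩ := hN hz
    refine (gm_res G (leOfHom ((Opens.map (consMap X)).map (homOfLE h2))) t z hz).trans ?_
    exact he.symm.trans (gm_res G (leOfHom ((Opens.map (consMap X)).map (homOfLE h1))) (pulled (consMap X) F s) z hz).symm
  have hq : (consSES F).X₃.obj.map (homOfLE (h2.trans hVU)).op q = 0 := by
    rw [← SpecColim.res_res _ h2 hVU q, ← ht, ← SpecColim.app_res, e]
    exact (SpecColim.app_comp (consUnit F) (cokernel.π (consUnit F)) N' _).symm.trans (by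
      rw [cokernel.condition]
      rfl)
  rw [← gm_res _ (h2.trans hVU) q y N.2.2.2]
  exact (congrArg _ hq).trans (map_zero _)

/-- A chain of `k` proper generalisations starts at the point. -/
def HasChain : ℕ → X → Prop
  | 0, _ => True
  | k + 1, y => ∃ z, z ⤳ y ∧ z ≠ y ∧ HasChain k z

lemma exists_series_of_hasChain : ∀ (k : ℕ) (y : X), HasChain k y →
    ∃ p : LTSeries (IrreducibleCloseds X), p.length = k ∧
      ((p.head : Set X) = closure {y}) := by
  intro k
  induction k with
  | zero => exact fun y _ => ⟨RelSeries.singleton _ ⟨closure {y}, isIrreducible_singleton.closure, isClosed_closure⟩, rfl, rfl⟩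
  | succ k ih =>
    rintro y ⟨z, hzy, hne, hz⟩
    obtain ⟨p, hp, hh⟩ := ih z hz
    let Y : IrreducibleCloseds X := ⟨closure {y}, isIrreducible_singleton.closure, isClosed_closure⟩
    have hlt : Y < p.head := by
      refine lt_of_le_of_ne (show (Y : Set X) ⊆ p.head from hh ▸ hzy.closure_subset) fun e => hne ?_
      have he : closure ({z} : Set X) ⊆ closure {y} := by
        rw [← hh, ← e]
        rfl
      exact (hzy.antisymm (specializes_iff_closure_subset.2 he)).eq
    refine ⟨RelSeries.cons p Y hlt, ?_, ?_⟩
    · simp [hp]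
    · simp [Y]

lemma not_hasChain {d : ℕ} (hd : topologicalKrullDim X ≤ d) {k : ℕ} (hk : d < k) (y : X) : ¬ HasChain k y :=
  fun h => by
    obtain ⟨p, hp, -⟩ := exists_series_of_hasChain k y h
    have h1 : (k : WithBot ℕ∞) ≤ (d : WithBot ℕ∞) := hp ▸ (Order.LTSeries.length_le_krullDim p).trans hd
    exact absurd (Nat.cast_le.1 h1) (by lia)

/-- The stalks are zero away from the points with a chain of length `k`. -/
def SuppChain (k : ℕ) (F : AbSh X) : Prop := ∀ y, ¬ HasChain k y → StalkZero F y

omit [SpectralSpace X] in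
lemma suppChain_zero (F : AbSh X) : SuppChain 0 F := fun _ h => absurd trivial h

lemma suppChain_coker {k : ℕ} (h : SuppChain k F) : SuppChain (k + 1) (consSES F).X₃ :=
  fun y hy => stalkZero_coker F fun z hzy hne => h z fun hc => hy ⟨z, hzy, hne, hc⟩

lemma sections_eq_zero {d k : ℕ} (hd : topologicalKrullDim X ≤ d) (hk : d < k) {F : AbSh X}
    (h : SuppChain k F) {U : Opens X} (s : F.obj.obj (op U)) : s = 0 :=
  eq_of_gm F s 0 fun x hx => (h x (not_hasChain hd hk x) U hx s).trans (map_zero _).symm

lemma subsingleton_EU_consPush (U : Opens X) (hU : IsCompact (U : Set X)) (n : ℕ) :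
    Subsingleton (EU (consPush F) U (n + 1)) :=
  SpecColim.subsingleton_EU_of_qFlasque hU
    (fun A B hA hAo hAc hB hBo hBc => QuasiSeparatedSpace.inter_isCompact A B hAo hAc hBo hBc) n _
    (fun _ _ h _ hV hW => qFlasque_consPush F h le_top hV hW)

/-- Cohomology vanishes above the dimension. -/
theorem subsingleton_EU_top {d : ℕ} (hd : topologicalKrullDim X ≤ d) : ∀ (m k : ℕ) (F : AbSh X),
    SuppChain k F → d < k + m → Subsingleton (EU F ⊤ m) := by
  intro m
  induction m with
  | zero =>
    intro k F h hk
    exact subsingleton_of_forall_eq 0 fun a => (eu0 ⊤ F).injective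
      ((sections_eq_zero hd hk h _).trans (map_zero _).symm)
  | succ m ih =>
    intro k F h hk
    have := subsingleton_EU_consPush F ⊤ isCompact_univ m
    have := ih (k + 1) _ (suppChain_coker F h) (by lia)
    exact (eDelta_surjective (consSES_shortExact F) ⊤ m).subsingleton

/-- Restriction to compact opens is surjective in the top degree. -/
theorem surjective_eRes {d : ℕ} (hd : topologicalKrullDim X ≤ d) (U : Opens X) (hU : IsCompact (U : Set X)) :
    ∀ (m k : ℕ) (F : AbSh X), SuppChain k F → d ≤ k + m →
      Function.Surjective (eRes F (homOfLE (le_top : U ≤ ⊤)) m) := by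
  intro m
  induction m with
  | zero =>
    intro k F h hk a
    obtain ⟨t, ht⟩ := qFlasque_consPush F (le_top : U ≤ ⊤) le_rfl isCompact_univ hU
      ((consUnit F).hom.app (op U) (eu0 U F a))
    haveI : Mono (consSES F).f := mono_consUnit F
    obtain ⟨s, hs⟩ := TopCat.Sheaf.sections_exact_of_left_exact (consSES_shortExact F).1
      (consSES_shortExact F).2 t (sections_eq_zero (k := k + 1) hd (by lia) (suppChain_coker F h) _)
    refine ⟨(eu0 ⊤ F).symm s, (eu0 U F).injective ?_⟩
    rw [eu0_eRes, AddEquiv.apply_symm_apply]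
    refine (AddCommGrpCat.mono_iff_injective ((consUnit F).hom.app (op U))).1 ?_ ?_
    · haveI : Mono (consUnit F).hom := (sheafToPresheaf _ _).map_mono (consUnit F)
      infer_instance
    · rw [SpecColim.app_res (consUnit F) le_top s]
      exact (congrArg _ hs).trans ht
  | succ m ih =>
    intro k F h hk a
    have := subsingleton_EU_consPush F U hU m
    obtain ⟨q, rfl⟩ := eDelta_surjective (consSES_shortExact F) U m a
    obtain ⟨q', rfl⟩ := ih (k + 1) _ (suppChain_coker F h) (by lia) q
    exact ⟨eDelta (consSES_shortExact F) ⊤ m q', eDelta_eRes (consSES_shortExact F) _ m q'⟩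

end Groth.Agent.SpecLim
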