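import Groth.Agent.SpecLim.Generization
import Groth.Agent.DescSec.ClosedStalk
import Mathlib.CategoryTheory.Filtered.Final

/-!
# Cohomology near quasi-compact subsets and stalks of higher direct images on spectral spaces
-/

set_option autoImplicit false
set_option linter.style.haveILetI false
set_option backward.isDefEq.respectTransparency false
set_option backward.isDefEq.respectTransparency.types false

universe u

open CategoryTheory CategoryTheory.Limits Opposite TopologicalSpace Topology Set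

namespace Groth.Agent.SpecLim

variable {X : TopCat.{u}} [SpectralSpace X]

/-- Compact open neighbourhoods of a subset. -/
abbrev CNb (E : Set X) : ObjectProperty (Opens X)ᵒᵖ := fun U => E ⊆ (U.unop : Set X) ∧ IsCompact (U.unop : Set X)

instance isFiltered_cNb (E : Set X) : IsFiltered (CNb E).FullSubcategory where
  cocone_objs A B := ⟨⟨op (A.obj.unop ⊓ B.obj.unop), fun x hx => ⟨A.property.1 hx, B.property.1 hx⟩,
      A.property.2.inter_of_isOpen B.property.2 A.obj.unop.2 B.obj.unop.2⟩,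
    ObjectProperty.homMk (homOfLE inf_le_left).op, ObjectProperty.homMk (homOfLE inf_le_right).op, trivial⟩
  cocone_maps A B f g := ⟨B, 𝟙 B, ObjectProperty.hom_ext _ (Subsingleton.elim _ _)⟩
  nonempty := ⟨⟨op ⊤, fun _ _ => trivial, isCompact_univ⟩⟩

lemma mem_iff_forall_cNb {E : Set X} (hE : IsCompact E) (x : X) :
    (∃ e ∈ E, e ∈ closure {x}) ↔ ∀ U : (CNb E).FullSubcategory, x ∈ U.obj.unop := by
  refine ⟨fun ⟨e, he, hex⟩ U => ?_, fun h => ?_⟩
  · obtain ⟨y, hy, hyx⟩ := mem_closure_iff.1 hex _ U.obj.unop.2 (U.property.1 he)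
    rwa [Set.mem_singleton_iff.1 hyx] at hy
  · by_contra hcon
    push Not at hcon
    have hV : ∀ e : E, ∃ V : Opens X, (e : X) ∈ V ∧ x ∉ V ∧ IsCompact (V : Set X) := fun e => by
      obtain ⟨O, hO, heO, hxO⟩ : ∃ O : Set X, IsOpen O ∧ (e : X) ∈ O ∧ x ∉ O :=
        ⟨(closure {x})ᶜ, isClosed_closure.isOpen_compl, hcon e e.2, fun hh => hh (subset_closure rfl)⟩
      obtain ⟨V, heV, hVO, hVc⟩ := SpecColim.exists_compact_nbhd (W := (⟨O, hO⟩ : Opens X)) (x := (e : X)) heO
      exact ⟨V, heV, fun hxV => hxO (hVO hxV), hVc⟩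
    choose V heV hxV hVc using hV
    obtain ⟨t, ht⟩ := hE.elim_finite_subcover (fun e => (V e : Set X)) (fun e => (V e).2)
      (fun e he => mem_iUnion.2 ⟨⟨e, he⟩, heV _⟩)
    have hU : x ∈ (⋃ e ∈ t, (V e : Set X)) := h
      ⟨op ⟨⋃ e ∈ t, (V e : Set X), isOpen_biUnion fun e _ => (V e).2⟩, ht, t.isCompact_biUnion fun e _ => hVc e⟩
    obtain ⟨e, -, hxe⟩ := mem_iUnion₂.1 hU
    exact hxV e hxe

/-- Cohomology of the generalisations of a quasi-compact subset. -/
theorem nonempty_addEquiv_generization (E : Set X) (hE : IsCompact E) (F : CohTop.Ab X) (p : ℕ) :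
    Nonempty ((colimit (ObjectProperty.ι (CNb E) ⋙
        (Sheaf.cohomologyPresheafFunctor (Opens.grothendieckTopology X) p).obj F) : AddCommGrpCat.{u}) ≃+
      CohTop.H ((CohTop.pull (incl {x : X | ∃ e ∈ E, e ∈ closure {x}})).obj F) p) :=
  nonempty_addEquiv_colimit (CNb E).ι (fun U => U.property.2) _ (mem_iff_forall_cNb hE) F p

section Stalk

variable {Y : TopCat.{u}} [SpectralSpace Y] (f : X ⟶ Y) (y : Y)

/-- Compact open neighbourhoods of a point. -/
abbrev CPt : ObjectProperty (OpenNhds y)ᵒᵖ := fun U => IsCompact ((U.unop.1 : Opens Y) : Set Y)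

lemma exists_cPt (d : (OpenNhds y)ᵒᵖ) : ∃ c : (CPt y).FullSubcategory, Nonempty (d ⟶ (CPt y).ι.obj c) := by
  obtain ⟨V, hyV, hVd, hVc⟩ := SpecColim.exists_compact_nbhd (W := d.unop.1) (x := y) d.unop.2
  exact ⟨⟨op ⟨V, hyV⟩, hVc⟩, ⟨(homOfLE (x := (⟨V, hyV⟩ : OpenNhds y)) (y := d.unop) hVd).op⟩⟩

instance isFiltered_cPt : IsFiltered (CPt y).FullSubcategory :=
  IsFiltered.of_exists_of_isFiltered_of_fullyFaithful (CPt y).ι (exists_cPt y)

instance final_cPt : (CPt y).ι.Final :=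
  Functor.final_of_exists_of_isFiltered _ (exists_cPt y) fun {_ c} _ _ =>
    ⟨c, 𝟙 c, Subsingleton.elim _ _⟩

/-- Preimages of compact neighbourhoods of a point. -/
noncomputable abbrev preT : (CPt y).FullSubcategory ⥤ (Opens X)ᵒᵖ :=
  (CPt y).ι ⋙ (OpenNhds.inclusion y).op ⋙ (Opens.map f).op

omit [SpectralSpace X] in
lemma mem_iff_forall_cPt (x : X) :
    y ∈ closure {f x} ↔ ∀ U : (CPt y).FullSubcategory, x ∈ ((preT f y).obj U).unop := by
  refine ⟨fun h U => ?_, fun h => mem_closure_iff.2 fun O hO hyO => ⟨f x, ?_, rfl⟩⟩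
  · obtain ⟨z, hz, hzx⟩ := mem_closure_iff.1 h _ U.obj.unop.1.2 U.obj.unop.2
    rwa [Set.mem_singleton_iff.1 hzx] at hz
  · obtain ⟨V, hyV, hVO, hVc⟩ := SpecColim.exists_compact_nbhd (W := (⟨O, hO⟩ : Opens Y)) (x := y) hyO
    exact hVO (h ⟨op ⟨V, hyV⟩, hVc⟩)

/-- Stalks of higher direct images along a spectral map. -/
theorem nonempty_stalk_Rpush (hf : IsSpectralMap f) (F : CohTop.Ab X) (p : ℕ) :
    Nonempty (CohTop.stalk ((CohTop.Rpush f p).obj F) y ≃+
      CohTop.H ((CohTop.pull (incl {x : X | y ∈ closure {f x}})).obj F) p) := by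
  have hT : ∀ U, IsCompact (((preT f y).obj U).unop : Set X) := fun U =>
    hf.isCompact_preimage_of_isOpen U.obj.unop.1.2 U.property
  haveI : PreservesFiniteLimits (colim (J := (CPt y).FullSubcategory) (C := AddCommGrpCat.{u})) :=
    HasExactColimitsOfShape.preservesFiniteLimits
  haveI : PreservesFiniteLimits (colT (preT f y)) := comp_preservesFiniteLimits _ _
  haveI : PreservesFiniteColimits (colT (preT f y)) := comp_preservesFiniteColimits _ _
  haveI : (colT (preT f y)).Additive := inferInstance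
  let P : CohTop.Ab X ⥤ ((Opens X)ᵒᵖ ⥤ AddCommGrpCat.{u}) := sheafToPresheaf _ _
  let G : ((Opens X)ᵒᵖ ⥤ AddCommGrpCat.{u}) ⥤ ((OpenNhds y)ᵒᵖ ⥤ AddCommGrpCat.{u}) :=
    (Functor.whiskeringLeft _ _ _).obj ((OpenNhds.inclusion y).op ⋙ (Opens.map f).op)
  let i : P ⋙ colT (preT f y) ≅ CohTop.push f ⋙ DescSec.stA (X := Y) y :=
    Functor.isoWhiskerLeft (P ⋙ G) (Functor.Final.colimIso (CPt y).ι)
  obtain ⟨e₀⟩ := SSExist.nonempty_rightDerived_sheafToPresheaf_iso _ F p
  let e₁ := (DescSec.nonempty_rightDerived_comp_exact (CohTop.push f) (DescSec.stA (X := Y) y) F p).some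
  let e₂ := (DescSec.nonempty_rightDerived_of_iso i F p).some
  let e₃ := (DescSec.nonempty_rightDerived_comp_exact P (colT (preT f y)) F p).some
  obtain ⟨e₄⟩ := nonempty_addEquiv_colimit (preT f y) hT {x : X | y ∈ closure {f x}} (mem_iff_forall_cPt f y) F p
  exact ⟨(e₁.symm ≪≫ e₂.symm ≪≫ e₃ ≪≫ (colT (preT f y)).mapIso e₀).addCommGroupIsoToAddEquiv.trans e₄⟩

end Stalk

end Groth.Agent.SpecLim
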