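import Groth.Agent.CompactPull.Stalk
import Groth.Agent.CompactPull.StalkIso
import Groth.Agent.SpecSp.Constr
import Groth.Agent.SpecColim.Basic
import Groth.Agent.CohVanish.Global
import Groth.Agent.SSExist.CohPre
import Mathlib.Algebra.Category.Grp.AB

/-!
# Cohomology of intersections of compact opens of a spectral space
-/

set_option autoImplicit false
set_option linter.style.haveILetI false
set_option backward.isDefEq.respectTransparency false
set_option backward.isDefEq.respectTransparency.types false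

universe u

open CategoryTheory CategoryTheory.Limits Opposite TopologicalSpace Topology Set

namespace Groth.Agent.SpecLim

open Groth.Agent.CompactPull

variable {X : TopCat.{u}} [SpectralSpace X] {𝒥 : Type u} [SmallCategory 𝒥] [IsFiltered 𝒥]
  (T : 𝒥 ⥤ (Opens X)ᵒᵖ) (hT : ∀ j, IsCompact ((T.obj j).unop : Set X))
  (W : Set X) (hW : ∀ x, x ∈ W ↔ ∀ j, x ∈ (T.obj j).unop)

include hT hW in
/-- An open containing the trace of a compact open on the intersection contains one at a stage. -/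
theorem exists_stage_le {V O : Opens X} (hV : IsCompact (V : Set X)) (h : W ∩ V ⊆ O) :
    ∃ j, (T.obj j).unop ⊓ V ≤ O := by
  haveI : Nonempty 𝒥 := IsFiltered.nonempty
  obtain ⟨j, hj⟩ := SpecSp.exists_subset_of_directed (fun j : 𝒥 => ((T.obj j).unop : Set X) ∩ V)
    (fun i j => ⟨IsFiltered.max i j, inter_subset_inter_left _ (leOfHom (T.map (IsFiltered.leftToMax i j)).unop),
      inter_subset_inter_left _ (leOfHom (T.map (IsFiltered.rightToMax i j)).unop)⟩)
    (fun j => (SpecSp.isClopen_cons ((T.obj j).unop.2.inter V.2)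
      ((hT j).inter_of_isOpen hV (T.obj j).unop.2 V.2)).1)
    (SpecSp.isOpen_cons O.2) (fun x hx => h ⟨(hW x).2 fun j => (mem_iInter.1 hx j).1,
      (mem_iInter.1 hx IsFiltered.nonempty.some).2⟩)
  exact ⟨j, hj⟩

omit [IsFiltered 𝒥] in
include hT hW in
lemma isClosed_cons_W : IsClosed[constructibleTopology X] W := by
  have h : W = ⋂ j, ((T.obj j).unop : Set X) := by
    ext x
    simp [hW]
  rw [h]
  exact @isClosed_iInter X 𝒥 (constructibleTopology X) _ fun j =>
    (SpecSp.isClopen_cons (T.obj j).unop.2 (hT j)).1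

include hT hW in
lemma isCompact_inter {V : Opens X} (hV : IsCompact (V : Set X)) : IsCompact (W ∩ (V : Set X)) :=
  SpecSp.isCompact_of_isClosed_cons
    (@IsClosed.inter X _ _ (constructibleTopology X) (isClosed_cons_W T hT W hW) (SpecSp.isClopen_cons V.2 hV).1)

/-- The inclusion of the intersection. -/
abbrev incl : TopCat.of W ⟶ X := TopCat.ofHom ⟨Subtype.val, continuous_subtype_val⟩

variable (F : CohTop.Ab X)

include hT hW in
/-- A section vanishing on the trace vanishes at a stage. -/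
theorem exists_zero_stage {V : Opens X} (hV : IsCompact (V : Set X)) (s : F.obj.obj (op V))
    (h : pulled (incl W) F s = 0) :
    ∃ j, F.obj.map (homOfLE (inf_le_right : (T.obj j).unop ⊓ V ≤ V)).op s = 0 := by
  let O : Opens X := ⟨eqLocus F s (0 : F.obj.obj (op V)), isOpen_eqLocus F _ _⟩
  have hO : W ∩ V ⊆ O := fun x hx => by
    refine ⟨hx.2, hx.2, ?_⟩
    refine (germ_eq_zero_of_pulled (incl W) F IsInducing.subtypeVal s ⟨x, hx.1⟩ hx.2 ?_).trans (map_zero _).symm
    exact (congrArg _ h).trans (map_zero _)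
  obtain ⟨j, hj⟩ := exists_stage_le T hT W hW hV hO
  refine ⟨j, eq_of_gm F _ _ fun x hx => ?_⟩
  refine (gm_res F inf_le_right s x hx).trans ?_
  obtain ⟨_, _, e⟩ := hj hx
  exact e.trans ((map_zero _).trans (map_zero _).symm)

include hT hW in
/-- A section on the trace comes from a stage. -/
theorem exists_rep_stage {V : Opens X} (hV : IsCompact (V : Set X))
    (t : ((CohTop.pull (incl W)).obj F).obj.obj (op ((Opens.map (incl W)).obj V))) :
    ∃ (j : 𝒥) (s : F.obj.obj (op ((T.obj j).unop ⊓ V))), ∀ (z : W) (hz : (z : X) ∈ (T.obj j).unop ⊓ V),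
      gm ((CohTop.pull (incl W)).obj F) ((Opens.map (incl W)).obj ((T.obj j).unop ⊓ V)) z hz (pulled (incl W) F s) =
        gm ((CohTop.pull (incl W)).obj F) ((Opens.map (incl W)).obj V) z hz.2 t := by
  classical
  let G := (CohTop.pull (incl W)).obj F
  have key : ∀ c : (Subtype.val ⁻¹' (V : Set X) : Set W), ∃ (U : Opens X) (s : F.obj.obj (op U)),
      IsCompact (U : Set X) ∧ U ≤ V ∧ (c.1 : X) ∈ U ∧
      ∀ (z : W) (hz : (z : X) ∈ U) (hz' : (z : X) ∈ V),
        gm G ((Opens.map (incl W)).obj U) z hz (pulled (incl W) F s) = gm G ((Opens.map (incl W)).obj V) z hz' t := by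
    intro c
    obtain ⟨U, hcU, s, W', hcW', hW'⟩ := exists_pulled_germ (incl W) F IsInducing.subtypeVal t c.1 c.2
    obtain ⟨O, hO, hOeq⟩ := (IsInducing.subtypeVal (t := W)).isOpen_iff.1 W'.2
    obtain ⟨U', hcU', hU'le, hU'c⟩ := SpecColim.exists_compact_nbhd (W := U ⊓ ⟨O, hO⟩ ⊓ V)
      (x := (c.1 : X)) ⟨⟨hcU, (Set.ext_iff.1 hOeq c.1).2 hcW'⟩, c.2⟩
    have hU'U : U' ≤ U := hU'le.trans (inf_le_left.trans inf_le_left)
    refine ⟨U', F.obj.map (homOfLE hU'U).op s, hU'c, hU'le.trans inf_le_right, hcU', fun z hz hz' => ?_⟩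
    rw [pulled_res (incl W) F hU'U s]
    refine (gm_res G (leOfHom ((Opens.map (incl W)).map (homOfLE hU'U))) _ z hz).trans ?_
    exact hW' z hz' (hU'U hz) ((Set.ext_iff.1 hOeq z).1 (hU'le hz).1.2)
  choose U s hUc hUV hcU hU using key
  obtain ⟨t', ht'⟩ := (isCompact_inter T hT W hW hV).elim_finite_subcover (fun c => (U c : Set X))
    (fun c => (U c).2) (fun x hx => mem_iUnion.2 ⟨⟨⟨x, hx.1⟩, hx.2⟩, hcU _⟩)
  let O : Opens X := ⨆ c : t', U c.1
  obtain ⟨j₀, hj₀⟩ := exists_stage_le T hT W hW hV (O := O) (fun x hx => by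
    obtain ⟨c, hc, hxc⟩ := mem_iUnion₂.1 (ht' hx)
    exact Opens.mem_iSup.2 ⟨⟨c, hc⟩, hxc⟩)
  have hpair : ∀ p : t' × t', ∃ j, (T.obj j).unop ⊓ (U p.1.1 ⊓ U p.2.1) ≤
      (⟨eqLocus F (s p.1.1) (s p.2.1), isOpen_eqLocus F _ _⟩ : Opens X) := fun p =>
    exists_stage_le T hT W hW (V := U p.1.1 ⊓ U p.2.1)
      ((hUc _).inter_of_isOpen (hUc _) (U _).2 (U _).2) fun x hx =>
      ⟨hx.2.1, hx.2.2, germ_eq_of_pulled (incl W) F IsInducing.subtypeVal (s p.1.1) (s p.2.1) ⟨x, hx.1⟩ hx.2.1 hx.2.2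
        ((hU _ ⟨x, hx.1⟩ hx.2.1 (hUV _ hx.2.1)).trans (hU _ ⟨x, hx.1⟩ hx.2.2 (hUV _ hx.2.2)).symm)⟩
  choose jp hjp using hpair
  obtain ⟨j, hj⟩ := IsFiltered.sup_objs_exists (insert j₀ (Finset.univ.image jp))
  have hle : ∀ i ∈ insert j₀ (Finset.univ.image jp), (T.obj j).unop ≤ (T.obj i).unop := fun i hi =>
    leOfHom (T.map (hj hi).some).unop
  have hj0 := hle j₀ (Finset.mem_insert_self _ _)
  have hjP : ∀ p, (T.obj j).unop ≤ (T.obj (jp p)).unop := fun p =>
    hle _ (Finset.mem_insert_of_mem (Finset.mem_image_of_mem jp (Finset.mem_univ p)))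
  let M : t' → Opens X := fun c => (T.obj j).unop ⊓ U c.1
  obtain ⟨b, hb⟩ := exists_glue F M (fun c => F.obj.map (homOfLE (inf_le_right : M c ≤ U c.1)).op (s c.1))
    fun a c x hxa hxc => by
      obtain ⟨_, _, e⟩ := hjp (a, c) ⟨hjP (a, c) hxa.1, hxa.2, hxc.2⟩
      exact (gm_res F inf_le_right (s a.1) x hxa).trans (e.trans (gm_res F inf_le_right (s c.1) x hxc).symm)
  have hcov : (T.obj j).unop ⊓ V ≤ iSup M := fun x hx => by
    obtain ⟨c, hc⟩ := Opens.mem_iSup.1 (hj₀ ⟨hj0 hx.1, hx.2⟩)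
    exact Opens.mem_iSup.2 ⟨c, hx.1, hc⟩
  refine ⟨j, F.obj.map (homOfLE hcov).op b, fun z hz => ?_⟩
  rw [pulled_res (incl W) F hcov b]
  refine (gm_res G (leOfHom ((Opens.map (incl W)).map (homOfLE hcov))) _ z hz).trans ?_
  obtain ⟨c, hc⟩ := Opens.mem_iSup.1 (hcov hz)
  refine Eq.trans ?_ (hU c.1 z hc.2 hz.2)
  refine (stalkCmp_germ (incl W) F b z (hcov hz)).symm.trans (Eq.trans ?_ (stalkCmp_germ (incl W) F (s c.1) z hc.2))
  exact congrArg _ ((hb c (z : X) hc).trans (gm_res F inf_le_right (s c.1) (z : X) hc))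

include hT hW in
/-- Inverse images of flasque sheaves extend sections from compact opens. -/
theorem qFlasque_pull [TopCat.Sheaf.IsFlasque F] :
    SpecColim.QFlasque (X := TopCat.of W) ⊤ ((CohTop.pull (incl W)).obj F) := by
  intro A B hBA _ _ hBc t
  obtain ⟨s, hsfin, hsB⟩ : ∃ V : Opens X, IsCompact (V : Set X) ∧ (Opens.map (incl W)).obj V = B := by
    obtain ⟨O, hO, hOB⟩ := (IsInducing.subtypeVal (t := W)).isOpen_iff.1 B.2
    have hc : IsCompact (Subtype.val '' (B : Set W)) := hBc.image continuous_subtype_val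
    obtain ⟨K, hK₁, hK₂, hK₃, hK₄⟩ : ∃ K : Set X, IsOpen K ∧ IsCompact K ∧ Subtype.val '' (B : Set W) ⊆ K ∧ K ⊆ O := by
      have hBO : Subtype.val '' (B : Set W) ⊆ O := by
        rintro _ ⟨z, hz, rfl⟩
        exact (Set.ext_iff.1 hOB z).2 hz
      choose V hV using fun x : (Subtype.val '' (B : Set W) : Set X) =>
        SpecColim.exists_compact_nbhd (W := (⟨O, hO⟩ : Opens X)) (x := (x : X)) (hBO x.2)
      obtain ⟨f, hf⟩ := hc.elim_finite_subcover (fun x => (V x : Set X)) (fun x => (V x).2)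
        (fun x hx => mem_iUnion.2 ⟨⟨x, hx⟩, (hV ⟨x, hx⟩).1⟩)
      exact ⟨⋃ x ∈ f, (V x : Set X), isOpen_biUnion fun x _ => (V x).2,
        f.isCompact_biUnion fun x _ => (hV x).2.2, hf, iUnion₂_subset fun x _ => (hV x).2.1⟩
    refine ⟨⟨K, hK₁⟩, hK₂, Opens.ext (Set.ext fun z => ⟨fun hz => ?_, fun hz => hK₃ ⟨z, hz, rfl⟩⟩)⟩
    exact (Set.ext_iff.1 hOB z).1 (hK₄ hz)
  subst hsB
  obtain ⟨j, b, hb⟩ := exists_rep_stage T hT W hW F hsfin t
  obtain ⟨b', hb'⟩ := (AddCommGrpCat.epi_iff_surjective _).1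
    (TopCat.Presheaf.IsFlasque.epi (F := F.obj) (homOfLE (le_top : (T.obj j).unop ⊓ s ≤ ⊤)).op) b
  refine ⟨((CohTop.pull (incl W)).obj F).obj.map (homOfLE (fun z _ => trivial : A ≤ (Opens.map (incl W)).obj ⊤)).op
    (pulled (incl W) F b'), eq_of_gm _ _ _ fun z hz => ?_⟩
  have hz' : (z : X) ∈ (T.obj j).unop ⊓ s := ⟨(hW _).1 z.2 j, hz⟩
  refine (gm_res _ hBA _ z hz).trans ((gm_res _ _ _ z (hBA hz)).trans ?_)
  refine Eq.trans ?_ (hb z hz')
  rw [← hb', pulled_res]
  exact (gm_res _ (fun y _ => trivial : (Opens.map (incl W)).obj ((T.obj j).unop ⊓ s) ≤ (Opens.map (incl W)).obj ⊤) _ z hz').symm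

/-- Sections at the stages. -/
noncomputable abbrev colT : ((Opens X)ᵒᵖ ⥤ AddCommGrpCat.{u}) ⥤ AddCommGrpCat.{u} :=
  (Functor.whiskeringLeft _ _ _).obj T ⋙ colim

include hT hW in
/-- Cohomology of an intersection of compact opens is the colimit of the cohomology of the opens. -/
theorem nonempty_addEquiv_colimit (p : ℕ) :
    Nonempty ((colimit (T ⋙ (Sheaf.cohomologyPresheafFunctor (Opens.grothendieckTopology X) p).obj F) :
      AddCommGrpCat.{u}) ≃+ CohTop.H ((CohTop.pull (incl W)).obj F) p) := by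
  let j : TopCat.of W ⟶ X := incl W
  let Γ : CohTop.Ab (TopCat.of W) ⥤ AddCommGrpCat.{u} :=
    (sheafSections (Opens.grothendieckTopology (TopCat.of W)) AddCommGrpCat.{u}).obj (op ⊤)
  haveI : SpectralSpace (TopCat.of W) := SpecSp.spectralSpace_of_isClosed_cons (isClosed_cons_W T hT W hW)
  haveI : Γ.Additive := { map_add := rfl }
  haveI : PreservesFiniteLimits Γ := preservesFiniteLimits_of_natIso (FibDescLib.gammaIso (TopCat.of W)).symm
  haveI : (TopCat.Sheaf.pushforward AddCommGrpCat.{u} j).Additive := { map_add := rfl }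
  haveI : (CohTop.pull j).Additive :=
    (TopCat.Sheaf.pullbackPushforwardAdjunction AddCommGrpCat.{u} j).left_adjoint_additive
  haveI := SSExist.preservesFiniteLimits_pullTop j
  haveI : PreservesFiniteColimits (CohTop.pull j) :=
    haveI : PreservesColimitsOfSize.{0, 0} (CohTop.pull j) :=
      (TopCat.Sheaf.pullbackPushforwardAdjunction AddCommGrpCat.{u} j).leftAdjoint_preservesColimits
    PreservesColimitsOfSize.preservesFiniteColimits _
  haveI : PreservesFiniteLimits (colim (J := 𝒥) (C := AddCommGrpCat.{u})) :=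
    HasExactColimitsOfShape.preservesFiniteLimits
  haveI : PreservesFiniteLimits (colT T) := comp_preservesFiniteLimits _ _
  haveI : PreservesFiniteColimits (colT T) := comp_preservesFiniteColimits _ _
  haveI : (colT T).Additive := inferInstance
  have hle : ∀ i, (⊤ : Opens (TopCat.of W)) ≤ (Opens.map j).obj (T.obj i).unop := fun i z _ => (hW _).1 z.2 i
  let P : CohTop.Ab X ⥤ ((Opens X)ᵒᵖ ⥤ AddCommGrpCat.{u}) := sheafToPresheaf _ _
  let η := (TopCat.Sheaf.pullbackPushforwardAdjunction AddCommGrpCat.{u} j).unit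
  let c : P ⋙ colT T ⟶ CohTop.pull j ⋙ Γ :=
    { app := fun G => colimit.desc (T ⋙ G.obj)
        { pt := ((CohTop.pull j).obj G).obj.obj (op ⊤)
          ι :=
            { app := fun i => (η.app G).hom.app (T.obj i) ≫ ((CohTop.pull j).obj G).obj.map (homOfLE (hle i)).op
              naturality := fun i k h => by
                refine (Category.assoc _ _ _).symm.trans (Eq.trans ?_ (Category.comp_id _).symm)
                refine (congrArg (fun t => t ≫ _) ((η.app G).hom.naturality (T.map h))).trans ?_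
                refine (Category.assoc _ _ _).trans ?_
                refine congrArg (CategoryStruct.comp _) ?_
                exact (((CohTop.pull j).obj G).obj.map_comp _ _).symm.trans (congrArg _ (Subsingleton.elim _ _)) } }
      naturality := fun G G' φ => colimit.hom_ext fun i => by
        refine (Category.assoc _ _ _).symm.trans ?_
        refine (congrArg (fun t => t ≫ _) (ι_colimMap _ i)).trans ?_
        refine (Category.assoc _ _ _).trans ?_
        refine (congrArg (CategoryStruct.comp _) (colimit.ι_desc _ i)).trans ?_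
        refine Eq.trans ?_ (Category.assoc _ _ _)
        refine Eq.trans ?_ (congrArg (fun t => t ≫ _) (colimit.ι_desc _ i)).symm
        refine Eq.trans ?_ (Category.assoc _ _ _).symm
        refine Eq.trans ?_ (congrArg (CategoryStruct.comp _) (((CohTop.pull j).map φ).hom.naturality _).symm)
        refine (Category.assoc _ _ _).symm.trans (Eq.trans ?_ (Category.assoc _ _ _))
        refine congrArg (fun t => t ≫ _) ?_
        exact congr_app (congrArg (fun ψ => ψ.hom) (η.naturality φ)) (T.obj i) }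
  have hc : ∀ G, IsIso (c.app G) := by
    intro G
    have hι : ∀ (i : 𝒥) (s : G.obj.obj (T.obj i)), c.app G (colimit.ι (T ⋙ G.obj) i s) =
        ((CohTop.pull j).obj G).obj.map (homOfLE (hle i)).op (pulled j G (U := (T.obj i).unop) s) := fun i s => by
      show (colimit.ι (T ⋙ G.obj) i ≫ colimit.desc (T ⋙ G.obj) _) s = _
      rw [colimit.ι_desc]
      rfl
    have hg : ∀ (i : 𝒥) (s : G.obj.obj (T.obj i)) (z : W),
        gm ((CohTop.pull j).obj G) ⊤ z trivial (c.app G (colimit.ι (T ⋙ G.obj) i s)) =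
          gm ((CohTop.pull j).obj G) ((Opens.map j).obj (T.obj i).unop) z ((hW _).1 z.2 i)
            (pulled j G (U := (T.obj i).unop) s) := fun i s z => by
      rw [hι]
      exact gm_res _ (hle i) _ z trivial
    refine (ConcreteCategory.isIso_iff_bijective _).2 ⟨?_, fun t => ?_⟩
    · rw [injective_iff_map_eq_zero]
      intro a ha
      obtain ⟨i, s, rfl⟩ := Concrete.colimit_exists_rep (T ⋙ G.obj) a
      have hs0 : pulled j G (U := (T.obj i).unop) s = 0 := eq_of_gm _ _ _ fun z hz =>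
        (hg i s z).symm.trans ((congrArg _ ha).trans ((map_zero _).trans (map_zero _).symm))
      obtain ⟨k, hk⟩ := exists_zero_stage T hT W hW G (hT i) s hs0
      let m := IsFiltered.max i k
      have hmle : (T.obj m).unop ≤ (T.obj k).unop ⊓ (T.obj i).unop :=
        le_inf (leOfHom (T.map (IsFiltered.rightToMax i k)).unop) (leOfHom (T.map (IsFiltered.leftToMax i k)).unop)
      have h0 : (T ⋙ G.obj).map (IsFiltered.leftToMax i k) s = 0 := by
        have := congrArg (G.obj.map (homOfLE hmle).op) hk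
        rw [map_zero, ← ConcreteCategory.comp_apply, ← G.obj.map_comp] at this
        exact (congrArg (fun f => G.obj.map f s) (Subsingleton.elim _ _)).trans this
      refine (ConcreteCategory.congr_hom (colimit.w (T ⋙ G.obj) (IsFiltered.leftToMax i k)) s).symm.trans ?_
      exact (congrArg (colimit.ι (T ⋙ G.obj) m) h0).trans (map_zero _)
    · obtain ⟨i, s, hs⟩ := exists_rep_stage T hT W hW G (V := ⊤) isCompact_univ
        (((CohTop.pull j).obj G).obj.map (homOfLE (fun z _ => trivial : (Opens.map j).obj ⊤ ≤ ⊤)).op t)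
      refine ⟨colimit.ι (T ⋙ G.obj) i (G.obj.map (homOfLE (le_inf le_rfl le_top)).op s), eq_of_gm _ _ _ fun z _ => ?_⟩
      refine (hg i _ z).trans ?_
      rw [pulled_res]
      refine (gm_res _ (leOfHom ((Opens.map j).map (homOfLE (le_inf le_rfl le_top)))) _ z ((hW _).1 z.2 i)).trans ?_
      exact (hs z ⟨(hW _).1 z.2 i, trivial⟩).trans (gm_res _ (fun y _ => trivial : (Opens.map j).obj ⊤ ≤ ⊤) t z (show z ∈ (Opens.map j).obj ⊤ from trivial))
  haveI : IsIso c := NatIso.isIso_of_isIso_app _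
  obtain ⟨e₀⟩ := SSExist.nonempty_rightDerived_sheafToPresheaf_iso _ F p
  let e₁ := (DescSec.nonempty_rightDerived_comp_exact P (colT T) F p).some
  let e₂ := (DescSec.nonempty_rightDerived_of_iso (T := P ⋙ colT T) (T' := CohTop.pull j ⋙ Γ) (asIso c) F p).some
  let e₃ := (SSExist.nonempty_rightDerived_comp_iso (CohTop.pull j) Γ (fun Q hQ q hq => by
    haveI := hQ
    obtain ⟨k, rfl⟩ := Nat.exists_eq_succ_of_ne_zero hq.ne'
    haveI : TopCat.Sheaf.IsFlasque Q := CohVanish.isFlasque_of_injective Q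
    haveI := SpecColim.subsingleton_EU_of_qFlasque (X := TopCat.of W) (U := ⊤) isCompact_univ
      isQuasiSeparated_univ k _ (qFlasque_pull T hT W hW Q)
    haveI : Subsingleton (CohTop.H ((CohTop.pull j).obj Q) (k + 1)) :=
      (CohVanish.hEquiv ((CohTop.pull j).obj Q) (k + 1)).toEquiv.subsingleton
    obtain ⟨e⟩ := SSExist.nonempty_ext_iso_rightDerived Γ (FibDescLib.zS (TopCat.of W))
      (FibDescLib.gammaIso (TopCat.of W)) ((CohTop.pull j).obj Q) (k + 1)
    exact IsZero.of_iso (AddCommGrpCat.isZero_of_subsingleton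
      (AddCommGrpCat.of (CohTop.H ((CohTop.pull j).obj Q) (k + 1)))) e.symm) F p).some
  let e₄ := (SSExist.nonempty_ext_iso_rightDerived Γ (FibDescLib.zS (TopCat.of W))
    (FibDescLib.gammaIso (TopCat.of W)) ((CohTop.pull j).obj F) p).some
  exact ⟨((colT T).mapIso e₀.symm ≪≫ e₁.symm ≪≫ e₂ ≪≫ e₃ ≪≫ e₄.symm).addCommGroupIsoToAddEquiv⟩

end Groth.Agent.SpecLim
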